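import Cfsg.Agent.Spor.Ly3906A1.D0

set_option autoImplicit false
set_option maxRecDepth 100000000
set_option Elab.async false

namespace Cfsg.Agent.Spor.Ly3906A1

theorem ok0 : Net.okb 1 n0 = true := by decide +kernel

theorem ok1 : Net.okb 1 n1 = true := by decide +kernel

theorem ok2 : Net.okb 1 n2 = true := by decide +kernel

theorem ok3 : Net.okb 1 n3 = true := by decide +kernel

theorem rel0 : T.rel 1 [1, 1, 1, 1, 1, 1, 1, 1] 0 1 = true := by decide +kernel

theorem rel1 : T.rel 1 [2, 2, 2, 2, 2] 0 1 = true := by decide +kernel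

theorem rel2 : T.rel 1 [2, 1, 2, 1, 2, 1, 2, 1] 0 1 = true := by decide +kernel

theorem rel3 : T.rel 1 [2, 1, 1, 6, 5, 5] 0 1 = true := by decide +kernel

theorem rel4 : T.rel 1 [2, 1, 6, 5, 2, 1, 6, 5, 2, 1, 6, 5] 0 1 = true := by decide +kernel

theorem rel5 : T.rel 1 [3, 3, 3, 3, 3] 0 1 = true := by decide +kernel

theorem rel6 : T.rel 1 [1, 3, 5, 3, 1, 7, 5, 7, 1, 3, 5, 3, 1, 7, 5, 7, 1, 3, 5, 3, 1, 7, 5, 7, 1, 3, 5, 3, 1, 7, 5, 7, 1, 3, 5, 3, 1, 7, 5, 7] 0 1 = true := by decide +kernel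

theorem rel7 : T.rel 1 [1, 3, 5, 3, 1, 7, 5, 3, 1, 3, 5, 7, 1, 7, 5, 7] 0 1 = true := by decide +kernel

theorem rel8 : T.rel 1 [1, 3, 5, 3, 1, 7, 5, 7, 1, 3, 5, 3, 1, 3, 5, 7, 1, 7, 7, 5] 0 1 = true := by decide +kernel

theorem rel9 : T.rel 1 [1, 3, 5, 3, 1, 7, 5, 7, 2, 3, 6, 3, 1, 3, 5, 7, 1, 7, 5, 2, 7, 6] 0 1 = true := by decide +kernel

theorem rel10 : T.rel 1 [1, 3, 5, 3, 1, 7, 5, 7, 6, 3, 2, 3, 1, 3, 5, 7, 1, 7, 5, 6, 7, 2] 0 1 = true := by decide +kernel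

theorem rel11 : T.rel 1 [1, 3, 5, 3, 1, 7, 5, 7, 1, 3, 5, 3, 1, 7, 5, 7, 2, 3, 6, 3, 2, 7, 6, 7] 0 1 = true := by decide +kernel

theorem rel12 : T.rel 1 [3, 1, 3, 5, 7, 1, 7, 5, 3, 1, 3, 5, 7, 1, 7, 5, 6, 3, 2, 3, 6, 7, 2, 7] 0 1 = true := by decide +kernel

theorem rel13 : T.rel 1 [1, 3, 5, 3, 1, 7, 5, 7, 2, 3, 6, 1, 3, 5, 2, 7, 6, 1, 7, 5] 0 1 = true := by decide +kernel

theorem rel14 : T.rel 1 [6, 3, 2, 1, 3, 5, 6, 7, 2, 1, 7, 5] 0 1 = true := by decide +kernel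

theorem rel15 : T.rel 1 [1, 3, 5, 3, 1, 7, 5, 7, 6, 3, 2, 2, 3, 6, 6, 7, 2, 2, 7, 6] 0 1 = true := by decide +kernel

theorem rel16 : T.rel 1 [3, 3, 1, 1, 3, 5, 5] 0 1 = true := by decide +kernel

theorem rel17 : T.rel 1 [2, 3, 3, 6, 7, 6, 7, 2, 1, 2, 3, 6, 5] 0 1 = true := by decide +kernel

theorem rel18 : T.rel 1 [7, 1, 3, 5, 2, 3, 6, 6, 7, 2, 7, 6, 7, 2, 1, 6, 3, 2, 5] 0 1 = true := by decide +kernel

theorem rel19 : T.rel 1 [3, 1, 3, 5, 7, 1, 7, 5, 3, 1, 3, 5, 7, 1, 7, 1, 3, 5, 3, 1, 7, 5, 7, 5] 0 1 = true := by decide +kernel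

theorem rel20 : T.rel 1 [1, 7, 5, 2, 7, 6, 6, 3, 2, 3, 6, 3, 2, 2, 1, 3, 5, 6] 0 1 = true := by decide +kernel

theorem rel21 : T.rel 1 [7, 7, 6, 7, 2, 2, 3, 3, 2, 3, 6, 6] 0 1 = true := by decide +kernel

theorem rel22 : T.rel 1 [3, 1, 3, 5, 7, 1, 7, 5, 2, 1, 3, 5, 3, 1, 7, 5, 7, 6] 0 1 = true := by decide +kernel

theorem rel23 : T.rel 1 [4, 3, 4, 6, 1, 2, 3, 4, 1, 3, 5, 3, 1, 7, 5, 6, 6, 4, 3, 4, 6, 1, 2, 3, 4, 1, 3, 5, 3, 1, 7, 5, 6, 6] 0 1 = true := by decide +kernel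

theorem rel24 : T.rel 1 [7, 6, 6, 3, 4, 3, 4, 6, 1, 2, 3, 4, 1, 3, 5, 3, 1, 7, 5, 6, 6, 3, 2, 2, 1, 3, 5, 7, 1, 7, 5, 8, 7, 6, 5, 2, 8, 7, 8] 0 1 = true := by decide +kernel

theorem rel25 : T.rel 1 [6, 6, 7, 5, 3, 6, 3, 2, 1, 4, 3, 4, 6, 1, 2, 3, 4, 1, 3, 5, 3, 1, 7, 5, 6, 3, 2, 1, 3, 5, 7, 1, 7, 5, 8, 7, 6, 5, 2, 8, 7, 8] 0 1 = true := by decide +kernel

theorem rel26 : T.rel 1 [6, 3, 6, 6, 7, 2, 4, 3, 4, 6, 1, 2, 3, 4, 1, 3, 5, 3, 1, 7, 5, 6, 6, 6, 3, 2, 2, 2, 1, 3, 5, 7, 1, 7, 5, 8, 7, 6, 5, 2, 8, 7, 8] 0 1 = true := by decide +kernel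

theorem rel27 : T.rel 1 [7, 2, 3, 6, 7, 6, 3, 2, 4, 3, 4, 6, 1, 2, 3, 4, 1, 3, 5, 3, 1, 7, 5, 6, 6, 1, 3, 5, 3, 1, 7, 5, 7, 2, 2, 1, 3, 5, 7, 1, 7, 5, 8, 7, 6, 5, 2, 8, 7, 8] 0 1 = true := by decide +kernel

theorem rel28 : T.rel 1 [5, 6, 6, 5, 2, 3, 5, 7, 1, 7, 5, 6, 3, 2, 4, 3, 4, 6, 1, 2, 3, 4, 1, 3, 5, 3, 1, 7, 5, 6, 6, 1, 1, 4, 3, 4, 6, 1, 2, 3, 4, 1, 3, 5, 3, 1, 7, 5, 6, 6] 0 1 = true := by decide +kernel

theorem rel29 : T.rel 1 [7, 2, 3, 6, 6, 3, 3, 2, 4, 3, 4, 6, 1, 2, 3, 4, 1, 3, 5, 3, 1, 7, 5, 2, 1, 3, 5, 7, 1, 7, 5, 8, 7, 6, 5, 2, 8, 7, 8] 0 1 = true := by decide +kernel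

theorem rel30 : T.rel 1 [5, 3, 5, 7, 1, 7, 5, 6, 3, 2, 4, 3, 4, 6, 1, 2, 3, 4, 1, 3, 5, 3, 1, 7, 5, 6, 6, 1, 6, 1, 2, 2, 1, 4, 3, 4, 6, 1, 2, 3, 4, 1, 3, 5, 3, 1, 7, 5, 6, 6] 0 1 = true := by decide +kernel

theorem rel31 : T.rel 1 [1, 1, 1, 2, 3, 6, 1, 6, 7, 2, 1, 3, 5, 4, 3, 4, 6, 1, 2, 3, 4, 1, 3, 5, 3, 1, 7, 5, 6, 6, 1, 7, 5, 4, 3, 4, 6, 1, 2, 3, 4, 1, 3, 5, 3, 1, 7, 5, 6, 6, 1, 3, 5, 4, 3, 4, 6, 1, 2, 3, 4, 1, 3, 5, 3, 1, 7, 5, 6, 6] 0 1 = true := by decide +kernel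

theorem rel32 : T.rel 1 [5, 6, 6, 1, 2, 3, 6, 3, 2, 1, 3, 5, 3, 1, 7, 5, 7, 5, 2, 2, 1, 3, 5, 7, 1, 7, 5, 8, 7, 6, 5, 2, 8, 7, 8, 5, 2, 2, 1, 3, 5, 7, 1, 7, 5, 8, 7, 6, 5, 2, 8, 7, 8, 3, 5, 2, 1, 3, 5, 7, 1, 7, 5, 8, 7, 6, 5, 2, 8, 7] 0 1 = true := by decide +kernel

theorem rel33 : T.rel 1 [5, 5, 5, 5, 4, 4] 0 1 = true := by decide +kernel

theorem rel34 : T.rel 1 [4, 2, 8, 6] 0 1 = true := by decide +kernel

theorem rel35 : T.rel 1 [5, 5, 5, 4, 1, 8] 0 1 = true := by decide +kernel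

theorem rel36 : T.rel 1 [1, 3, 5, 3, 1, 7, 5, 7, 4, 1, 3, 5, 3, 1, 7, 5, 7, 4, 1, 3, 5, 3, 1, 7, 5, 7, 4, 1, 3, 5, 3, 1, 7, 5, 7, 4, 1, 3, 5, 3, 1, 7, 5, 7, 4] 0 1 = true := by decide +kernel

theorem rel37 : T.rel 1 [5, 3, 5, 3, 1, 7, 5, 7, 4, 3, 1, 3, 5, 7, 1, 7, 5, 4, 1, 3, 5, 3, 1, 7, 5, 7, 4] 0 1 = true := by decide +kernel

theorem rel38 : T.rel 1 [6, 5, 2, 1] 0 1 = true := by decide +kernel

theorem rel39 : T.rel 1 [7, 5, 3, 1] 0 1 = true := by decide +kernel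

theorem rel40 : T.rel 1 [8, 5, 4, 1] 0 1 = true := by decide +kernel

theorem rel41 : T.rel 1 [7, 6, 3, 2] 0 1 = true := by decide +kernel

theorem rel42 : T.rel 1 [8, 6, 4, 2] 0 1 = true := by decide +kernel

theorem rel43 : T.rel 1 [8, 7, 4, 3] 0 1 = true := by decide +kernel

theorem hcov : T.treeCov (ones 1) L 1 = true := by decide +kernel

theorem hg : lall (fun z => band (memL L z) (band (sub (ones 1) (T.let z).cl) (T.closed (ones 1) z))) gs = true := by decide +kernel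

theorem hivk : ivOk (2 * 0) EX IV = true := by decide +kernel

theorem hrt : RT.ok (2 * 0) EX RL = true := by decide +kernel

theorem hdefs : defs F 20 = true := by decide +kernel

noncomputable def st0_l : List Nat := [nat_lit 0x120000100001403, nat_lit 0x140000100001c03, nat_lit 0x160000100002403, nat_lit 0x8000008000120002c0000b00000806, nat_lit 0x110001780000003, nat_lit 0x1800004c02, nat_lit 0x1800005402, nat_lit 0x1800005c02, nat_lit 0x1800000802, nat_lit 0x320000080001403, nat_lit 0x340000080001c03, nat_lit 0x360000080002403, nat_lit 0xd80000200038000008000e005, nat_lit 0x1c00038000200000b404, nat_lit 0x2100003802, nat_lit 0x60000e000002000070001e0000ac06, nat_lit 0x11c0000c0000d0002380001805, nat_lit 0x60002400003003, nat_lit 0x2b000258000e003, nat_lit 0x2500001802, nat_lit 0x260000d002, nat_lit 0xa0002700002c03, nat_lit 0x40002700001403, nat_lit 0x80002700002403, nat_lit 0x64000390000580014c000140004e00002800150000a8000040001c0000cc0c,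 nat_lit 0x36000280000dc03, nat_lit 0x2d0002b0000b0000b40003f0000400013800070000500001c80013c00070000510001c800110000580005b0001680015c000580005a00016800158000100004e0001c0001401b, nat_lit 0x3e0002e80000403, nat_lit 0x2e0000d802, nat_lit 0x2f00002002, nat_lit 0x32000300000cc03, nat_lit 0xa0003100002c03, nat_lit 0x40003100001403, nat_lit 0x19800164000ca00059000328000c800002000050002a8001a40005000059000148001540005000058000148000100001600052000050000140005000059000148001500005000058000148001a0000a800004000000000cc000c8000580003200016026, nat_lit 0x6600029000198000a40000a00002800154000d2000550003480001000070000330002c80019400076000550001d00016400076000540001d0000c8000d600058000350000cc00076000550001d00016000076000540001d000190000b0000320001c80001427, nat_lit 0x3600002802, nat_lit 0x650002c800194000640000100002800154000d2000280002c8000a4000aa000280002c0000a4000de00038000280000e40009e00038000288000e4000c60004f000370000e8000d40006100028800184000a2000330002c8000c8000d6000590002c8001a827,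 nat_lit 0x3a0003880000403, nat_lit 0x380000c802, nat_lit 0x3900001002, nat_lit 0x1c0001d0000e80000100027000000000a20000100027800000000c2000510003a8000e4000ec000630002780018c00000000390003b0001d800070000500001c80013c00070000510001c80018c0009e00077000000001d0000c200051000308001d4000a2000740000080013800000000500000080013c000ee000380003a0001d032, nat_lit 0x8001e402, nat_lit 0x180003d80006403, nat_lit 0x1a0003e80006c03, nat_lit 0x1e0003e80007c03, nat_lit 0x78000fa0007d0003e8001f405, nat_lit 0x200003e00008403, nat_lit 0x42000210000400007c0003e00007406, nat_lit 0x800003a000860001000007405, nat_lit 0x110000870004400008004, nat_lit 0x4500007002, nat_lit 0x190004600006003, nat_lit 0x1a0004600006c03, nat_lit 0x1e0004600007c03, nat_lit 0x800004900020400124000810000f000230000fa0008c0003e000234000fa0008d0003e00020800102000930004000024c0010200092000400002480003c0008c0003e8002301b, nat_lit 0x4a00007802, nat_lit 0x7f000488001f8001220007f000480001f8000340007d000460001f00011a0007d000468001f00012e0008d0000c0001e800032000970004680025c000300008e0004700006400036000900000d0002300012c0008c0004b000060000f6000190004600025827,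 nat_lit 0x1b0004c80006003, nat_lit 0xc80026c02, nat_lit 0x220003d80008c03, nat_lit 0x220004e80008c03, nat_lit 0x240004f80009403, nat_lit 0x240005080009403, nat_lit 0x1200027c0013e000220003d0001e806, nat_lit 0x29000146000a5000120002800013c000a0000128002940014e0009d000530000900d, nat_lit 0x150000240005400029c04, nat_lit 0x118002ac02, nat_lit 0x260003d80009c03, nat_lit 0x260005680009c03, nat_lit 0x98000f60007b0003d8001ec05, nat_lit 0xb1000578002c40015c000b0000578002c00015e00026000568001ec0015a0007a000560001ec001580007a000590002bc00162000ae000588002bc00160000ae000580000981b, nat_lit 0x138002d402]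
theorem st0 : band (steps F IV RT base st0_l 20) (Nat.beq (Nat.add 20 (llen st0_l)) 92) = true := by decide +kernel

theorem ep0a : T.treePath [] (Nat.shiftLeft 1 0) 1 = true := by decide +kernel

theorem ep0b : T.treePath [] (Nat.shiftLeft 1 0) 1 = true := by decide +kernel

theorem ep0c : band (lall (fun z => Nat.ble z 255) ([] ++ 1 :: [])) (concl F IV 92 0x1e801 (encA ([] ++ 1 :: []) 0)) = true := by decide +kernel

theorem ep0d : band (Rule.ok (2 * 0) EX [] ⟨lapp [] [], [], 0, false⟩) (band (lall (memL L) []) (lall (memL L) [])) = true := by decide +kernel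

theorem cov1 : T.cover 1 [(Nat.shiftLeft 1 0)] = true := by decide +kernel

theorem tl1 : Nat.beq (T.let 1).tt 0 = true := by decide +kernel

theorem ep1a : T.treePath [] (Nat.shiftLeft 1 0) 1 = true := by decide +kernel

theorem ep1b : T.treePath [] (Nat.shiftLeft 1 0) 1 = true := by decide +kernel

theorem ep1c : band (lall (fun z => Nat.ble z 255) ([] ++ 2 :: [])) (concl F IV 92 0x27001 (encA ([] ++ 2 :: []) 0)) = true := by decide +kernel

theorem ep1d : band (Rule.ok (2 * 0) EX [] ⟨lapp [] [], [], 0, false⟩) (band (lall (memL L) []) (lall (memL L) [])) = true := by decide +kernel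

theorem cov2 : T.cover 2 [(Nat.shiftLeft 1 0)] = true := by decide +kernel

theorem tl2 : Nat.beq (T.let 2).tt 0 = true := by decide +kernel

theorem ep2a : T.treePath [] (Nat.shiftLeft 1 0) 1 = true := by decide +kernel

theorem ep2b : T.treePath [] (Nat.shiftLeft 1 0) 1 = true := by decide +kernel

theorem ep2c : band (lall (fun z => Nat.ble z 255) ([] ++ 3 :: [])) (concl F IV 92 0x2b001 (encA ([] ++ 3 :: []) 0)) = true := by decide +kernel

theorem ep2d : band (Rule.ok (2 * 0) EX [] ⟨lapp [] [], [], 0, false⟩) (band (lall (memL L) []) (lall (memL L) [])) = true := by decide +kernel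

theorem cov3 : T.cover 3 [(Nat.shiftLeft 1 0)] = true := by decide +kernel

theorem tl3 : Nat.beq (T.let 3).tt 0 = true := by decide +kernel

theorem ep3a : T.treePath [] (Nat.shiftLeft 1 0) 1 = true := by decide +kernel

theorem ep3b : T.treePath [] (Nat.shiftLeft 1 0) 1 = true := by decide +kernel

theorem ep3c : band (lall (fun z => Nat.ble z 255) ([] ++ 4 :: [])) (concl F IV 92 0x2d801 (encA ([] ++ 4 :: []) 0)) = true := by decide +kernel

theorem ep3d : band (Rule.ok (2 * 0) EX [] ⟨lapp [] [], [], 0, false⟩) (band (lall (memL L) []) (lall (memL L) [])) = true := by decide +kernel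

theorem cov4 : T.cover 4 [(Nat.shiftLeft 1 0)] = true := by decide +kernel

theorem tl4 : Nat.beq (T.let 4).tt 0 = true := by decide +kernel

theorem rot5_1 : T.rot 5 [1] (sel (ones 1) ip5 1) = true := by decide +kernel

theorem rot5_1r : band (Rule.ok (2 * 0) EX RL ⟨5 :: [1], [], 44, false⟩) (lall (memL L) [1]) = true := by decide +kernel

theorem cov5 : T.cover 5 [(sel (ones 1) ip5 1)] = true := by decide +kernel

theorem tl5 : Nat.beq (T.let 5).tt 0 = true := by decide +kernel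

theorem rot6_1 : T.rot 6 [2] (sel (ones 1) ip6 1) = true := by decide +kernel

theorem rot6_1r : band (Rule.ok (2 * 0) EX RL ⟨6 :: [2], [], 44, false⟩) (lall (memL L) [2]) = true := by decide +kernel

theorem cov6 : T.cover 6 [(sel (ones 1) ip6 1)] = true := by decide +kernel

theorem tl6 : Nat.beq (T.let 6).tt 0 = true := by decide +kernel

theorem rot7_1 : T.rot 7 [3] (sel (ones 1) ip7 1) = true := by decide +kernel

theorem rot7_1r : band (Rule.ok (2 * 0) EX RL ⟨7 :: [3], [], 44, false⟩) (lall (memL L) [3]) = true := by decide +kernel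

theorem cov7 : T.cover 7 [(sel (ones 1) ip7 1)] = true := by decide +kernel

theorem tl7 : Nat.beq (T.let 7).tt 0 = true := by decide +kernel

theorem rot8_1 : T.rot 8 [4] (sel (ones 1) ip8 1) = true := by decide +kernel

theorem rot8_1r : band (Rule.ok (2 * 0) EX RL ⟨8 :: [4], [], 44, false⟩) (lall (memL L) [4]) = true := by decide +kernel

theorem cov8 : T.cover 8 [(sel (ones 1) ip8 1)] = true := by decide +kernel

theorem tl8 : Nat.beq (T.let 8).tt 0 = true := by decide +kernel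

end Cfsg.Agent.Spor.Ly3906A1
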