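import Cfsg.Agent.Spor.Chk

set_option autoImplicit false
set_option maxRecDepth 100000000
set_option Elab.async false
noncomputable section

namespace Cfsg.Agent.Spor.Ly3906A1

def n0 : Net := Net.nil

def n1 : Net := Net.nil

def n2 : Net := Net.nil

def n3 : Net := Net.nil

def ip1 : List Nat := []
def l1 : Let := ⟨0, false, 0x1, 0x0, [0x0]⟩

def ip2 : List Nat := []
def l2 : Let := ⟨1, false, 0x1, 0x0, [0x0]⟩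

def ip3 : List Nat := []
def l3 : Let := ⟨2, false, 0x1, 0x0, [0x0]⟩

def ip4 : List Nat := []
def l4 : Let := ⟨3, false, 0x1, 0x0, [0x0]⟩

def ip5 : List Nat := [0x1]
def l5 : Let := ⟨0, true, 0x1, 0x0, [0x1]⟩

def ip6 : List Nat := [0x1]
def l6 : Let := ⟨1, true, 0x1, 0x0, [0x1]⟩

def ip7 : List Nat := [0x1]
def l7 : Let := ⟨2, true, 0x1, 0x0, [0x1]⟩

def ip8 : List Nat := [0x1]
def l8 : Let := ⟨3, true, 0x1, 0x0, [0x1]⟩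

def F : Nat := nat_lit 0x40000000000000001400000040001400014030001400014010001400000030000000000000001200012000001300000030001300013020001300013010001300012020001200012010001200000020000000000000000d0000d000000e0000d080000d0000d00000100001003000100000e030000e0000003000000000d070000d0000d000000f0000f00000110000f07000110001105000110000d04000100001001000100000e010000e0000d010000d00000010000000000000000100001060000100000060000000001000000300000000000a0000102000030000300000060000a06000000000304000030000604000060000a040000a00001080000100000080000000001000000500000000000c0000c030000c0000a030000a00005030000500003030000300006030000600000070000000001070000100000000000b00001000000400001000000700004070000700001040000500005000000800000040000c00005010000c00004010000b00003010000a0000105000000000c04000000000b03000000000a020000000000000000200001000000900005050000c00004050000b00003050000a00014040000000013030001200012030000000011070000d00010040000d0000f030000d0000e020000d0000d02000000000c04000020000b03000020000a0200002000090100002000080800001000070700001000060600001000050400001000040300001000030200001000020100001000010100000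

def rt0_9 : RTree := RTree.node 0x501 ⟨[5, 1], [], 44, false⟩ (RTree.node 0x307 ⟨[3, 7], [], 44, false⟩ (RTree.node 0x206 ⟨[2, 6], [], 44, false⟩ (RTree.node 0x105 ⟨[1, 5], [], 44, false⟩ (RTree.leaf) (RTree.leaf)) (RTree.leaf)) (RTree.node 0x408 ⟨[4, 8], [], 44, false⟩ (RTree.leaf) (RTree.leaf))) (RTree.node 0x804 ⟨[8, 4], [], 44, false⟩ (RTree.node 0x703 ⟨[7, 3], [], 44, false⟩ (RTree.node 0x602 ⟨[6, 2], [], 44, false⟩ (RTree.leaf) (RTree.leaf)) (RTree.leaf)) (RTree.node 0x1040508 ⟨[1, 4, 5, 8], [6, 0], 40, false⟩ (RTree.leaf) (RTree.leaf)))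
def rt10_19 : RTree := RTree.node 0x3060702 ⟨[3, 6, 7, 2], [4], 41, false⟩ (RTree.node 0x2070603 ⟨[2, 7, 6, 3], [2], 41, true⟩ (RTree.node 0x1080504 ⟨[1, 8, 5, 4], [0], 40, true⟩ (RTree.node 0x1070503 ⟨[1, 7, 5, 3], [0], 39, true⟩ (RTree.leaf) (RTree.leaf)) (RTree.leaf)) (RTree.node 0x3020706 ⟨[3, 2, 7, 6], [2, 4], 41, true⟩ (RTree.leaf) (RTree.leaf))) (RTree.node 0x4060802 ⟨[4, 6, 8, 2], [3], 34, false⟩ (RTree.node 0x4020806 ⟨[4, 2, 8, 6], [], 34, true⟩ (RTree.node 0x3080704 ⟨[3, 8, 7, 4], [4], 43, true⟩ (RTree.leaf) (RTree.leaf)) (RTree.leaf)) (RTree.node 0x5030107 ⟨[5, 3, 1, 7], [4], 39, true⟩ (RTree.leaf) (RTree.leaf)))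
def rt0_19 : RTree := RTree.node 0x1060502 ⟨[1, 6, 5, 2], [0], 38, true⟩ (rt0_9) (rt10_19)
def rt20_29 : RTree := RTree.node 0x10405080101 ⟨[1, 4, 5, 8, 1, 1], [0], 35, false⟩ (RTree.node 0x303030303 ⟨[3, 3, 3, 3, 3], [], 5, true⟩ (RTree.node 0x5080104 ⟨[5, 8, 1, 4], [], 40, false⟩ (RTree.node 0x5070103 ⟨[5, 7, 1, 3], [], 39, false⟩ (RTree.leaf) (RTree.leaf)) (RTree.leaf)) (RTree.node 0x707070707 ⟨[7, 7, 7, 7, 7], [], 5, false⟩ (RTree.leaf) (RTree.leaf))) (RTree.node 0x7010107050507 ⟨[7, 1, 1, 7, 5, 5, 7], [5], 16, false⟩ (RTree.node 0x3010103050503 ⟨[3, 1, 1, 3, 5, 5, 3], [5], 16, true⟩ (RTree.node 0x40505050504 ⟨[4, 5, 5, 5, 5, 4], [6], 33, true⟩ (RTree.leaf) (RTree.leaf)) (RTree.leaf)) (RTree.node 0x7070101070505 ⟨[7, 7, 1, 1, 7, 5, 5], [5, 5], 16, false⟩ (RTree.leaf) (RTree.leaf)))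
def rt30_38 : RTree := RTree.node 0x60304030406010203040103050301070506060302020103050701070508070605020807080706 ⟨[6, 3, 4, 3, 4, 6, 1, 2, 3, 4, 1, 3, 5, 3, 1, 7, 5, 6, 6, 3, 2, 2, 1, 3, 5, 7, 1, 7, 5, 8, 7, 6, 5, 2, 8, 7, 8, 7, 6], [4, 2], 24, true⟩ (RTree.node 0x70507040301030507010705040103050301070507040503050301 ⟨[7, 5, 7, 4, 3, 1, 3, 5, 7, 1, 7, 5, 4, 1, 3, 5, 3, 1, 7, 5, 7, 4, 5, 3, 5, 3, 1], [0, 5, 0, 5, 1], 37, true⟩ (RTree.node 0x40301030507010705040103050301070507040503050301070507 ⟨[4, 3, 1, 3, 5, 7, 1, 7, 5, 4, 1, 3, 5, 3, 1, 7, 5, 7, 4, 5, 3, 5, 3, 1, 7, 5, 7], [0, 5, 0, 5, 1, 4, 0, 4], 37, true⟩ (RTree.node 0x3060502030306070607020102 ⟨[3, 6, 5, 2, 3, 3, 6, 7, 6, 7, 2, 1, 2], [1, 3, 4], 17, true⟩ (RTree.leaf) (RTree.leaf)) (RTree.leaf)) (RTree.node 0x60102030401030503010705060603020201030507010705080706050208070807060603040304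 ⟨[6, 1, 2, 3, 4, 1, 3, 5, 3, 1, 7, 5, 6, 6, 3, 2, 2, 1, 3, 5, 7, 1, 7, 5, 8, 7, 6, 5, 2, 8, 7, 8, 7, 6, 6, 3, 4, 3, 4], [4, 2, 2, 5, 7, 5, 7], 24, true⟩ (RTree.leaf) (RTree.leaf))) (RTree.node 0x80706050208070807020306060303020403040601020304010305030107050201030507010705 ⟨[8, 7, 6, 5, 2, 8, 7, 8, 7, 2, 3, 6, 6, 3, 3, 2, 4, 3, 4, 6, 1, 2, 3, 4, 1, 3, 5, 3, 1, 7, 5, 2, 1, 3, 5, 7, 1, 7, 5], [7, 5, 7, 2, 1, 3, 5, 7], 29, true⟩ (RTree.node 0x60707020207060304030406010203040103050301070506010305070107050807060502080708 ⟨[6, 7, 7, 2, 2, 7, 6, 3, 4, 3, 4, 6, 1, 2, 3, 4, 1, 3, 5, 3, 1, 7, 5, 6, 1, 3, 5, 7, 1, 7, 5, 8, 7, 6, 5, 2, 8, 7, 8], [4, 3, 5, 2, 2, 5, 5, 3], 29, false⟩ (RTree.leaf) (RTree.leaf)) (RTree.node 0x606050203050701070506030204030406010203040103050301070506060101040304060102030401030503010705060605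 ⟨[6, 6, 5, 2, 3, 5, 7, 1, 7, 5, 6, 3, 2, 4, 3, 4, 6, 1, 2, 3, 4, 1, 3, 5, 3, 1, 7, 5, 6, 6, 1, 1, 4, 3, 4, 6, 1, 2, 3, 4, 1, 3, 5, 3, 1, 7, 5, 6, 6, 5], [0], 28, true⟩ (RTree.leaf) (RTree.leaf)))
def rt20_38 : RTree := RTree.node 0x3030607060702010203060502 ⟨[3, 3, 6, 7, 6, 7, 2, 1, 2, 3, 6, 5, 2], [3], 17, true⟩ (rt20_29) (rt30_38)
def rt0_38 : RTree := RTree.node 0x5060102 ⟨[5, 6, 1, 2], [], 38, false⟩ (rt0_19) (rt20_38)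
def RT : RTree := rt0_38

def NT : List Net := [n0, n1, n2, n3]
def LT : List Let := [⟨0, false, 0, 0, []⟩, l1, l2, l3, l4, l5, l6, l7, l8]
def T : Tab := ⟨NT, LT⟩
def EX : List (List Nat) := [[], [0], [2], [4], [6], [1], [3], [5], [7]]
def RL : List (List Nat) := [[0, 0, 0, 0, 0, 0, 0, 0], [2, 2, 2, 2, 2], [0, 2, 0, 2, 0, 2, 0, 2], [1, 1, 3, 0, 0, 2], [1, 3, 0, 2, 1, 3, 0, 2, 1, 3, 0, 2], [4, 4, 4, 4, 4], [5, 1, 5, 0, 4, 1, 4, 0, 5, 1, 5, 0, 4, 1, 4, 0, 5, 1, 5, 0, 4, 1, 4, 0, 5, 1, 5, 0, 4, 1, 4, 0, 5, 1, 5, 0, 4, 1, 4, 0], [5, 1, 5, 0, 5, 1, 4, 0, 4, 1, 5, 0, 4, 1, 4, 0], [1, 5, 5, 0, 5, 1, 4, 0, 4, 1, 4, 0, 5, 1, 5, 0, 4, 1, 4, 0], [3, 5, 2, 1, 5, 0, 5, 1, 4, 0, 4, 3, 4, 2, 5, 1, 5, 0, 4, 1, 4, 0], [2, 5, 3, 1, 5, 0, 5, 1, 4, 0, 4, 2, 4, 3, 5, 1, 5, 0, 4, 1, 4, 0], [5, 3, 5, 2, 4,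 3, 4, 2, 5, 1, 5, 0, 4, 1, 4, 0, 5, 1, 5, 0, 4, 1, 4, 0], [5, 2, 5, 3, 4, 2, 4, 3, 1, 5, 0, 5, 1, 4, 0, 4, 1, 5, 0, 5, 1, 4, 0, 4], [1, 5, 0, 3, 5, 2, 1, 4, 0, 3, 4, 2, 5, 1, 5, 0, 4, 1, 4, 0], [1, 5, 0, 2, 5, 3, 1, 4, 0, 2, 4, 3], [3, 5, 2, 2, 5, 3, 3, 4, 2, 2, 4, 3, 5, 1, 5, 0, 4, 1, 4, 0], [1, 1, 4, 0, 0, 4, 4], [1, 3, 4, 2, 0, 2, 5, 3, 5, 3, 4, 4, 2], [1, 2, 4, 3, 0, 2, 5, 3, 5, 2, 5, 3, 3, 4, 2, 1, 4, 0, 5], [1, 5, 1, 5, 0, 4, 1, 4, 0, 5, 0, 5, 1, 4, 0, 4, 1, 5, 0, 5, 1, 4, 0, 4], [3, 1, 4, 0, 2, 2, 4, 3, 4, 2, 4, 3, 3, 5, 2, 1, 5, 0], [3, 3, 4, 2, 4, 4, 2, 2, 5, 3, 5, 5], [3, 5, 1, 5, 0, 4, 1, 4, 0, 2, 1, 5, 0, 5, 1, 4, 0, 4], [3, 3, 1, 5, 0, 4, 1, 4, 0, 6, 4, 2, 0, 3, 6, 4, 6, 3, 3, 1, 5, 0, 4, 1, 4, 0, 6, 4, 2, 0, 3, 6, 4, 6], [7, 5, 7, 2, 1, 3, 5, 7, 1, 5, 0, 5, 1, 4, 0, 2, 2,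 4, 3, 3, 1, 5, 0, 4, 1, 4, 0, 6, 4, 2, 0, 3, 6, 4, 6, 4, 3, 3, 5], [7, 5, 7, 2, 1, 3, 5, 7, 1, 5, 0, 5, 1, 4, 0, 2, 4, 3, 1, 5, 0, 4, 1, 4, 0, 6, 4, 2, 0, 3, 6, 4, 6, 0, 2, 4, 3, 4, 1, 5, 3, 3], [7, 5, 7, 2, 1, 3, 5, 7, 1, 5, 0, 5, 1, 4, 0, 2, 2, 2, 4, 3, 3, 3, 1, 5, 0, 4, 1, 4, 0, 6, 4, 2, 0, 3, 6, 4, 6, 2, 5, 3, 3, 4, 3], [7, 5, 7, 2, 1, 3, 5, 7, 1, 5, 0, 5, 1, 4, 0, 2, 2, 5, 1, 5, 0, 4, 1, 4, 0, 3, 3, 1, 5, 0, 4, 1, 4, 0, 6, 4, 2, 0, 3, 6, 4, 6, 2, 4, 3, 5, 3, 4, 2, 5], [3, 3, 1, 5, 0, 4, 1, 4, 0, 6, 4, 2, 0, 3, 6, 4, 6, 0, 0, 3, 3, 1, 5, 0, 4, 1, 4, 0, 6, 4, 2, 0, 3, 6, 4, 6, 2, 4, 3, 1, 5, 0, 5, 1, 4, 2, 1, 3, 3, 1], [7, 5, 7, 2, 1, 3, 5, 7, 1, 5, 0, 5, 1, 4, 0, 2, 1, 5, 0, 4, 1, 4, 0, 6, 4, 2, 0, 3, 6, 4, 6, 2, 4, 4, 3, 3, 4, 2, 5], [3, 3, 1, 5, 0, 4, 1, 4, 0, 6, 4, 2, 0, 3, 6, 4,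 6, 0, 2, 2, 0, 3, 0, 3, 3, 1, 5, 0, 4, 1, 4, 0, 6, 4, 2, 0, 3, 6, 4, 6, 2, 4, 3, 1, 5, 0, 5, 1, 4, 1], [3, 3, 1, 5, 0, 4, 1, 4, 0, 6, 4, 2, 0, 3, 6, 4, 6, 1, 4, 0, 3, 3, 1, 5, 0, 4, 1, 4, 0, 6, 4, 2, 0, 3, 6, 4, 6, 1, 5, 0, 3, 3, 1, 5, 0, 4, 1, 4, 0, 6, 4, 2, 0, 3, 6, 4, 6, 1, 4, 0, 2, 5, 3, 0, 3, 4, 2, 0, 0, 0], [5, 7, 2, 1, 3, 5, 7, 1, 5, 0, 5, 1, 4, 0, 2, 1, 4, 7, 5, 7, 2, 1, 3, 5, 7, 1, 5, 0, 5, 1, 4, 0, 2, 2, 1, 7, 5, 7, 2, 1, 3, 5, 7, 1, 5, 0, 5, 1, 4, 0, 2, 2, 1, 5, 1, 5, 0, 4, 1, 4, 0, 2, 4, 3, 4, 2, 0, 3, 3, 1], [6, 6, 1, 1, 1, 1], [3, 7, 2, 6], [7, 0, 6, 1, 1, 1], [6, 5, 1, 5, 0, 4, 1, 4, 0, 6, 5, 1, 5, 0, 4, 1, 4, 0, 6, 5, 1, 5, 0, 4, 1, 4, 0, 6, 5, 1, 5, 0, 4, 1, 4, 0, 6, 5, 1, 5, 0, 4, 1, 4, 0], [6, 5, 1, 5, 0, 4, 1, 4, 0, 6, 1, 5, 0, 5, 1, 4, 0, 4, 6, 5, 1, 5, 0, 4, 1, 4,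 1], [0, 2, 1, 3], [0, 4, 1, 5], [0, 6, 1, 7], [2, 4, 3, 5], [2, 6, 3, 7], [4, 6, 5, 7]]
def XL : List (List Nat) := []
def BW : List (List Nat) := []
def IV : Nat := 0x40302010807060500
def L : List Nat := [1, 2, 3, 4, 5, 6, 7, 8]
def gs : List Nat := [1, 2, 3, 4]
def base : List Nat := []

end Cfsg.Agent.Spor.Ly3906A1
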